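import Mathlib.RingTheory.GradedAlgebra.Basic
import Mathlib.Algebra.DirectSum.Ring
import Mathlib.Algebra.Field.Basic
import Mathlib.Algebra.Ring.Subring.Basic
import Mathlib.RingTheory.Ideal.Span
import Mathlib.Algebra.GroupWithZero.Action.Basic
import Mathlib.LinearAlgebra.Finsupp.LinearCombination

/-!
Rescaling a ring homomorphism out of a `ℤ`-graded ring.
-/

set_option autoImplicit false
universe u v

namespace K821.Rescale

open DirectSum

variable {A : Type u} [CommRing A] (𝒜 : ℤ → AddSubgroup A) [GradedRing 𝒜]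
  {L : Type v} [Field L] (φ : A →+* L) (ϖ : L) (hϖ : ϖ ≠ 0)

/-- the rescaled homomorphism `a ↦ φ(a) ϖ^{-d}` for `a` of degree `d` -/
noncomputable def rescale : A →+* L :=
  (DirectSum.toSemiring (A := fun d : ℤ => 𝒜 d)
    (fun d => (AddMonoidHom.mulRight (ϖ ^ (-d))).comp (φ.toAddMonoidHom.comp (𝒜 d).subtype))
    (by
      change φ ((1 : 𝒜 0) : A) * ϖ ^ (-(0 : ℤ)) = 1
      simp)
    (by
      intro i j ai aj
      change φ ((ai : A) * (aj : A)) * ϖ ^ (-(i + j)) = (φ (ai : A) * ϖ ^ (-i)) * (φ (aj : A) * ϖ ^ (-j))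
      rw [map_mul, neg_add, zpow_add₀ hϖ]
      ring)).comp (DirectSum.decomposeRingEquiv 𝒜).toRingHom

theorem rescale_of_mem {d : ℤ} {a : A} (ha : a ∈ 𝒜 d) : rescale 𝒜 φ ϖ hϖ a = φ a * ϖ ^ (-d) := by
  unfold rescale
  have h : (DirectSum.decomposeRingEquiv 𝒜).toRingHom a = DirectSum.of (fun d : ℤ => 𝒜 d) d ⟨a, ha⟩ :=
    DirectSum.decompose_of_mem 𝒜 ha
  rw [RingHom.comp_apply, h, DirectSum.toSemiring_of]
  rfl

theorem rescale_mem_of_mem (O : Subring L) (h0 : ∀ a, φ a ∈ O) (hϖO : ϖ ∈ O) (T : Finset A)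
    (deg : A → ℤ) (hdeg : ∀ t ∈ T, 0 < deg t) (hT : ∀ t ∈ T, t ∈ 𝒜 (deg t))
    (hTO : ∀ t ∈ T, φ t * ϖ ^ (-(deg t)) ∈ O)
    (hspan : ∀ (d : ℤ) (a : A), 0 < d → a ∈ 𝒜 d → a ∈ Ideal.span (T : Set A)) (n : ℕ) :
    ∀ (d : ℤ), d ≤ n → ∀ a ∈ 𝒜 d, rescale 𝒜 φ ϖ hϖ a ∈ O := by
  induction n with
  | zero =>
    intro d hd a ha
    rw [rescale_of_mem 𝒜 φ ϖ hϖ ha]
    refine O.mul_mem (h0 a) ?_
    obtain ⟨k, hk⟩ := Int.eq_ofNat_of_zero_le (a := -d) (by simpa using hd)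
    rw [hk, zpow_natCast]
    exact O.pow_mem hϖO k
  | succ n ih =>
    intro d hd a ha
    by_cases hdn : d ≤ n
    · exact ih d hdn a ha
    · have hd' : 0 < d := by omega
      have hmem := hspan d a hd' ha
      obtain ⟨c, -, hc⟩ := Submodule.mem_span_finset.mp hmem
      have ha2 : a = ∑ t ∈ T, ((decompose 𝒜 (c t) (d - deg t) : 𝒜 (d - deg t)) : A) * t := by
        have h1 : ((decompose 𝒜 a d : 𝒜 d) : A) = a := by
          rw [DirectSum.decompose_of_mem_same 𝒜 ha]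
        rw [← h1, ← hc, DirectSum.decompose_sum, DFinsupp.finsetSum_apply]
        refine (map_sum (𝒜 d).subtype _ _).trans ?_
        refine Finset.sum_congr rfl fun t ht => ?_
        have h2 := DirectSum.coe_decompose_mul_add_of_right_mem 𝒜 (i := d - deg t) (a := c t) (hT t ht)
        rw [sub_add_cancel] at h2
        exact h2
      rw [ha2, map_sum]
      refine O.sum_mem fun t ht => ?_
      rw [map_mul]
      refine O.mul_mem (ih (d - deg t) ?_ _ (SetLike.coe_mem _)) ?_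
      · have := hdeg t ht
        push_cast at hd
        omega
      · rw [rescale_of_mem 𝒜 φ ϖ hϖ (hT t ht)]
        exact hTO t ht

theorem rescale_mem (O : Subring L) (h0 : ∀ a, φ a ∈ O) (hϖO : ϖ ∈ O) (T : Finset A)
    (deg : A → ℤ) (hdeg : ∀ t ∈ T, 0 < deg t) (hT : ∀ t ∈ T, t ∈ 𝒜 (deg t))
    (hTO : ∀ t ∈ T, φ t * ϖ ^ (-(deg t)) ∈ O)
    (hspan : ∀ (d : ℤ) (a : A), 0 < d → a ∈ 𝒜 d → a ∈ Ideal.span (T : Set A)) (a : A) :
    rescale 𝒜 φ ϖ hϖ a ∈ O := by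
  classical
  rw [← DirectSum.sum_support_decompose 𝒜 a, map_sum]
  refine O.sum_mem fun d _ => ?_
  exact rescale_mem_of_mem 𝒜 φ ϖ hϖ O h0 hϖO T deg hdeg hT hTO hspan d.toNat d (Int.self_le_toNat d) _
    (SetLike.coe_mem _)

end K821.Rescale
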